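import Mathlib.FieldTheory.IntermediateField.Adjoin.Basic
import Mathlib.FieldTheory.IntermediateField.Adjoin.Algebra
import Mathlib.LinearAlgebra.TensorProduct.Tower
import Mathlib.RingTheory.TensorProduct.Free
import Mathlib.RingTheory.TensorProduct.Maps
import Mathlib.LinearAlgebra.Basis.Submodule

/-!
# Finite-dimensional algebras over an algebraic extension descend to a finite subextension
-/

set_option autoImplicit false

open scoped TensorProduct

namespace K447.FinDesc

variable (K : Type*) {L D : Type*} [Field K] [Field L] [Algebra K L] [Algebra.IsAlgebraic K L]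
  [Ring D] [Algebra L D]

/-- The canonical map `L ⊗_E D' → D`. -/
noncomputable def ext {K : Type*} [Field K] [Algebra K L] {E : IntermediateField K L}
    (D' : Subalgebra E D) : L ⊗[E] D' →ₐ[L] D :=
  Algebra.TensorProduct.lift (Algebra.ofId L D) D'.val
    (fun l d => (Algebra.commutes l (d : D)))

theorem ext_tmul {K : Type*} [Field K] [Algebra K L] {E : IntermediateField K L}
    (D' : Subalgebra E D) (l : L) (d : D') : ext D' (l ⊗ₜ d) = l • (d : D) := by
  rw [ext, Algebra.TensorProduct.lift_tmul, Algebra.smul_def]
  rfl

/-- A finite-dimensional algebra over an algebraic extension descends to a finite subextension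
containing any given finite set. -/
theorem exists_subalgebra [FiniteDimensional L D] (s : Set L) (hs : s.Finite) :
    ∃ (E : IntermediateField K L) (_ : FiniteDimensional K E) (D' : Subalgebra E D),
      s ⊆ E ∧ Module.Finite E D' ∧ Function.Bijective (ext D') := by
  classical
  let b := Module.finBasis L D
  let S : Set L := s ∪ (Set.range (fun t : (Fin (Module.finrank L D) × Fin (Module.finrank L D)) ×
      Fin (Module.finrank L D) => b.repr (b t.1.1 * b t.1.2) t.2) ∪
    Set.range (fun i => b.repr 1 i))
  have hS : S.Finite := hs.union ((Set.finite_range _).union (Set.finite_range _))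
  let E : IntermediateField K L := IntermediateField.adjoin K S
  have hE : FiniteDimensional K E := by
    have := hS.to_subtype
    exact IntermediateField.finiteDimensional_adjoin fun x _ => Algebra.IsIntegral.isIntegral x
  have hmem : ∀ x ∈ S, x ∈ E := fun x hx => IntermediateField.subset_adjoin K S hx
  let M : Submodule E D := Submodule.span E (Set.range b)
  have hM : ∀ x : D, (∀ i, b.repr x i ∈ E) → x ∈ M := by
    intro x hx
    rw [← b.sum_repr x]
    refine Submodule.sum_mem _ fun i _ => ?_
    have : b.repr x i • b i = (⟨b.repr x i, hx i⟩ : E) • b i := rfl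
    rw [this]
    exact Submodule.smul_mem _ _ (Submodule.subset_span ⟨i, rfl⟩)
  have hone : (1 : D) ∈ M := hM 1 fun i => hmem _ (Or.inr (Or.inr ⟨i, rfl⟩))
  have hmul : ∀ x ∈ M, ∀ y ∈ M, x * y ∈ M := by
    intro x hx y hy
    induction hx using Submodule.span_induction with
    | mem x hx =>
      obtain ⟨i, rfl⟩ := hx
      induction hy using Submodule.span_induction with
      | mem y hy =>
        obtain ⟨j, rfl⟩ := hy
        exact hM _ fun l => hmem _ (Or.inr (Or.inl ⟨((i, j), l), rfl⟩))
      | zero => rw [mul_zero]; exact zero_mem M
      | add u v _ _ hu hv => rw [mul_add]; exact add_mem hu hv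
      | smul c u _ hu =>
        rw [mul_smul_comm]
        exact M.smul_mem c hu
    | zero => rw [zero_mul]; exact zero_mem M
    | add u v _ _ hu hv => rw [add_mul]; exact add_mem hu hv
    | smul c u _ hu =>
      rw [smul_mul_assoc]
      exact M.smul_mem c hu
  let D' : Subalgebra E D := M.toSubalgebra hone (fun x y hx hy => hmul x hx y hy)
  have hli : LinearIndependent E b := b.linearIndependent.restrict_scalars
    (by
      intro x y hxy
      have h1 : (x : L) = y := by simpa [Algebra.smul_def] using hxy
      exact Subtype.ext h1)
  let b' : Module.Basis (Fin (Module.finrank L D)) E M := Module.Basis.span hli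
  let b'' : Module.Basis (Fin (Module.finrank L D)) E D' := b'
  have hb'' : ∀ i, ((b'' i : D') : D) = b i := fun i => congrArg Subtype.val (Module.Basis.span_apply hli i)
  refine ⟨E, hE, D', fun x hx => hmem x (Or.inl hx), Module.Finite.of_basis b'', ?_⟩
  have h2 : (ext D').toLinearMap = ((b''.baseChange L).equiv b (Equiv.refl _)).toLinearMap := by
    refine (b''.baseChange L).ext fun i => ?_
    rw [LinearEquiv.coe_coe, Module.Basis.equiv_apply, Module.Basis.baseChange_apply]
    change ext D' (1 ⊗ₜ[E] b'' i) = _
    rw [ext_tmul, hb'', one_smul]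
    rfl
  have h3 : (ext D' : L ⊗[E] D' → D) = ((b''.baseChange L).equiv b (Equiv.refl _)) := by
    funext x
    exact LinearMap.congr_fun h2 x
  rw [h3]
  exact LinearEquiv.bijective _

end K447.FinDesc
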